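import Groth.Agent.L15.ModTensor.RestrDerived
import Mathlib.LinearAlgebra.TensorProduct.Finiteness
import Mathlib.LinearAlgebra.TensorProduct.RightExactness
import Mathlib.Data.Finsupp.SMul
import Mathlib.Algebra.BigOperators.Ring.Finset

/-! The equational criterion of flatness for sheaves of modules on a ringed site: relations in a flat module
are locally trivial, and conversely. -/

set_option autoImplicit false

universe u

open CategoryTheory MonoidalCategory CategoryTheory.Limits Opposite TensorProduct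

noncomputable section

namespace Groth.L15.FlatCrit

open Groth.L00.ModSiteTensor Groth.L15.ModTensor

section Alg

variable {R : Type u} [CommRing R] {A B M : Type u} [AddCommGroup A] [Module R A] [AddCommGroup B] [Module R B]
  [AddCommGroup M] [Module R M]

theorem exists_ker_lift {N : Type u} [AddCommGroup N] [Module R N] (π : N →ₗ[R] M) (hπ : Function.Surjective π)
    (ξ : B ⊗[R] N) (h : π.lTensor B ξ = 0) : ∃ κ, (LinearMap.ker π).subtype.lTensor B κ = ξ :=
  (lTensor_exact B (LinearMap.exact_subtype_ker_map π) hπ ξ).1 h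

/-- A tensor killed by a map out of the left factor comes with finitely many relations on the right. -/
theorem exists_relations (i : A →ₗ[R] B) {n : ℕ} (x : Fin n → A) (t : Fin n → M)
    (h : ∑ k, i (x k) ⊗ₜ[R] t k = 0) :
    ∃ (m p : ℕ) (t' : Fin m → M) (x' : Fin m → A) (g : Fin p → Fin m → R) (y : Fin p → B),
      (∀ r, ∑ u, g r u • t' u = 0) ∧ (∀ u, i (x' u) = ∑ r, g r u • y r) ∧
        ∑ k, x k ⊗ₜ[R] t k = ∑ u, x' u ⊗ₜ[R] t' u := by
  classical
  let π : (M →₀ R) →ₗ[R] M := Finsupp.linearCombination R id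
  have hπ : Function.Surjective π := fun v => ⟨Finsupp.single v 1, by simp [π]⟩
  let ξ : B ⊗[R] (M →₀ R) := ∑ k, i (x k) ⊗ₜ Finsupp.single (t k) 1
  have hξ : π.lTensor B ξ = 0 := by simpa [ξ, π] using h
  obtain ⟨κ, hκ⟩ := exists_ker_lift π hπ ξ hξ
  obtain ⟨p, y, ρ, rfl⟩ := TensorProduct.exists_sum_tmul_eq κ
  let T : Finset M := (Finset.univ.image t) ∪ Finset.univ.biUnion fun r => (ρ r).1.support
  let e := T.equivFin.symm
  let x₀ : M → A := fun u => ∑ k, if t k = u then x k else 0
  have hb : ∀ u : M, i (x₀ u) = ∑ r, (ρ r).1 u • y r := fun u => by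
    have := congrArg (fun z => TensorProduct.rid R B ((Finsupp.lapply u).lTensor B z)) hκ
    simpa [ξ, x₀, Finsupp.single_apply, apply_ite, ite_smul] using this.symm
  refine ⟨T.card, p, fun u => (e u : M), fun u => x₀ (e u), fun r u => (ρ r).1 (e u), y, fun r => ?_,
    fun u => hb _, ?_⟩
  · have h0 : π (ρ r).1 = 0 := (ρ r).2
    rw [e.sum_comp (fun u : T => (ρ r).1 (u : M) • (u : M)),
      T.sum_coe_sort (fun u : M => (ρ r).1 u • u)]
    refine Eq.trans ?_ h0
    rw [Finsupp.linearCombination_apply, Finsupp.sum_of_support_subset (s := T)]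
    · rfl
    · exact fun u hu => Finset.mem_union_right _ (Finset.mem_biUnion.2 ⟨r, Finset.mem_univ r, hu⟩)
    · simp
  · rw [e.sum_comp (fun u : T => x₀ (u : M) ⊗ₜ[R] (u : M)),
      T.sum_coe_sort (fun u : M => x₀ u ⊗ₜ[R] u)]
    simp only [x₀, sum_tmul]
    rw [Finset.sum_comm]
    refine Finset.sum_congr rfl fun k _ => ?_
    rw [Finset.sum_eq_single (t k)]
    · rw [if_pos rfl]
    · intro u _ hu
      rw [if_neg (Ne.symm hu), zero_tmul]
    · intro hk
      exact absurd (Finset.mem_union_left _ (Finset.mem_image.2 ⟨k, Finset.mem_univ k, rfl⟩)) hk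

end Alg

variable {C : Type u} [SmallCategory C] {J : GrothendieckTopology C} {O : Sheaf J CommRingCat.{u}}

instance sectModule (F : ModSite.Mod O) (V : C) : Module (O.obj.obj (op V)) (ModSite.sect F V) :=
  inferInstanceAs (Module ((ModSite.ringSh O).obj.obj (op V)) (F.val.obj (op V)))

instance valModule (F : ModSite.Mod O) (V : C) : Module (O.obj.obj (op V)) (F.val.obj (op V)) :=
  inferInstanceAs (Module ((ModSite.ringSh O).obj.obj (op V)) (F.val.obj (op V)))

/-- Restriction of sections. -/
abbrev rs (F : ModSite.Mod O) {V W : C} (g : W ⟶ V) : ModSite.sect F V →+ ModSite.sect F W :=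
  (F.val.presheaf.map g.op).hom

/-- Restriction of functions. -/
abbrev rr (O : Sheaf J CommRingCat.{u}) {V W : C} (g : W ⟶ V) : O.obj.obj (op V) →+* O.obj.obj (op W) :=
  (O.obj.map g.op).hom

theorem rs_smul (F : ModSite.Mod O) {V W : C} (g : W ⟶ V) (r : O.obj.obj (op V)) (x : ModSite.sect F V) :
    rs F g (r • x) = rr O g r • rs F g x :=
  F.val.map_smul g.op r x

theorem rs_rs (F : ModSite.Mod O) {V W Y : C} (g : W ⟶ V) (h : Y ⟶ W) (x : ModSite.sect F V) :
    rs F h (rs F g x) = rs F (h ≫ g) x := by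
  rw [rs, rs, rs, op_comp, CategoryTheory.Functor.map_comp]
  rfl

theorem rr_rr (O : Sheaf J CommRingCat.{u}) {V W Y : C} (g : W ⟶ V) (h : Y ⟶ W) (r : O.obj.obj (op V)) :
    rr O h (rr O g r) = rr O (h ≫ g) r := by
  rw [rr, rr, rr, op_comp, CategoryTheory.Functor.map_comp]
  rfl

theorem exists_sum (A F : ModSite.Mod O) {V : C}
    (w : ((preF O).obj A ⊗ (preF O).obj F).obj (op V)) :
    ∃ (n : ℕ) (x : Fin n → ModSite.sect A V) (t : Fin n → ModSite.sect F V),
      w = ∑ k, x k ⊗ₜ[O.obj.obj (op V)] t k :=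
  TensorProduct.exists_sum_tmul_eq w

/-- Every relation is locally trivial. -/
def HasTrivialRelations (F : ModSite.Mod O) : Prop :=
  ∀ (U : C) (n : ℕ) (f : Fin n → O.obj.obj (op U)) (s : Fin n → ModSite.sect F U),
    ∑ j, f j • s j = 0 →
    ∃ S ∈ J U, ∀ ⦃V : C⦄ (g : V ⟶ U), S g →
      ∃ (l : ℕ) (t : Fin l → ModSite.sect F V) (a : Fin n → Fin l → O.obj.obj (op V)),
        (∀ j, rs F g (s j) = ∑ k, a j k • t k) ∧ (∀ k, ∑ j, a j k * rr O g (f j) = 0)

/-- Finitely many relations are locally trivial simultaneously. -/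
theorem trivial_relations (F : ModSite.Mod O) (hF : HasTrivialRelations F) (p : ℕ) (U : C) (n : ℕ)
    (f : Fin p → Fin n → O.obj.obj (op U)) (s : Fin n → ModSite.sect F U) (h : ∀ r, ∑ j, f r j • s j = 0) :
    ∃ S ∈ J U, ∀ ⦃V : C⦄ (g : V ⟶ U), S g →
      ∃ (l : ℕ) (t : Fin l → ModSite.sect F V) (a : Fin n → Fin l → O.obj.obj (op V)),
        (∀ j, rs F g (s j) = ∑ k, a j k • t k) ∧ ∀ r k, ∑ j, a j k * rr O g (f r j) = 0 := by
  induction p with
  | zero =>
    refine ⟨⊤, J.top_mem U, fun V g _ => ⟨n, fun j => rs F g (s j), fun i j => if i = j then 1 else 0,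
      fun j => ?_, fun r => r.elim0⟩⟩
    simp [ite_smul]
  | succ p ih =>
    obtain ⟨S, hS, hSd⟩ := ih (fun r => f r.castSucc) (fun r => h _)
    have key : ∀ ⦃V : C⦄ (g : V ⟶ U), S g → ∃ T ∈ J V, ∀ ⦃W : C⦄ (q : W ⟶ V), T q →
        ∃ (l : ℕ) (t : Fin l → ModSite.sect F W) (a : Fin n → Fin l → O.obj.obj (op W)),
          (∀ j, rs F (q ≫ g) (s j) = ∑ k, a j k • t k) ∧ ∀ r k, ∑ j, a j k * rr O (q ≫ g) (f r j) = 0 := by
      intro V g hg
      obtain ⟨l, t, a, hst, ha⟩ := hSd g hg
      have hrel : ∑ k, (∑ j, a j k * rr O g (f (Fin.last p) j)) • t k = 0 := by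
        have h0 := congrArg (rs F g) (h (Fin.last p))
        simp only [map_sum, rs_smul, hst, map_zero, Finset.smul_sum, smul_smul] at h0
        refine Eq.trans ?_ h0
        rw [Finset.sum_comm]
        simp only [Finset.sum_smul, mul_comm]
      obtain ⟨T, hT, hTd⟩ := hF V l _ t hrel
      refine ⟨T, hT, fun W q hq => ?_⟩
      obtain ⟨l', t', b, htt, hb⟩ := hTd q hq
      refine ⟨l', t', fun j m => ∑ k, rr O q (a j k) * b k m, fun j => ?_, fun r m => ?_⟩
      · rw [← rs_rs, hst, map_sum]
        simp only [rs_smul, htt, Finset.smul_sum, smul_smul, Finset.sum_smul]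
        exact Finset.sum_comm
      · have hswap : ∑ j, (∑ k, rr O q (a j k) * b k m) * rr O (q ≫ g) (f r j) =
            ∑ k, b k m * rr O q (∑ j, a j k * rr O g (f r j)) := by
          simp only [map_sum, map_mul, rr_rr, Finset.sum_mul, Finset.mul_sum]
          rw [Finset.sum_comm]
          exact Finset.sum_congr rfl fun k _ => Finset.sum_congr rfl fun j _ => by ring
        rw [hswap]
        refine Fin.lastCases ?_ (fun r => ?_) r
        · exact hb m
        · refine Finset.sum_eq_zero fun k _ => ?_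
          rw [ha r k, map_zero, mul_zero]
    choose T hT hTd using key
    refine ⟨Sieve.bind S (fun V g hg => T g hg), J.bind_covering hS (fun V g hg => hT g hg), ?_⟩
    rintro W _ ⟨V, q, g, hg, hq, rfl⟩
    exact hTd g hg q hq

/-- A section of the structure sheaf, as a function. -/
abbrev sc {V : C} (x : ModSite.sect (ModSite.unit O) V) : O.obj.obj (op V) := x

/-- The unit section of the structure sheaf. -/
abbrev one' (O : Sheaf J CommRingCat.{u}) (V : C) : ModSite.sect (ModSite.unit O) V := (1 : O.obj.obj (op V))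

/-- Global relations on a flat module are locally trivial. -/
theorem trivial_of_flat (F : ModSite.Mod O) (hF : ModSite.IsFlat F) {n : ℕ}
    (a : Fin n → (ModSite.unit O ⟶ ModSite.unit O)) (V : C) (s : Fin n → ModSite.sect F V)
    (h : ∑ j, sc ((a j).val.app (op V) (one' O V)) • s j = 0) :
    ∃ S ∈ J V, ∀ ⦃W : C⦄ (g : W ⟶ V), S g →
      ∃ (l : ℕ) (t : Fin l → ModSite.sect F W) (c : Fin n → Fin l → O.obj.obj (op W)),
        (∀ j, rs F g (s j) = ∑ k, c j k • t k) ∧
          ∀ k, ∑ j, c j k * sc ((a j).val.app (op W) (one' O W)) = 0 := by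
  haveI := hF.1
  haveI : HasFiniteBiproducts (ModSite.Mod O) := Abelian.hasFiniteBiproducts
  let X : ModSite.Mod O := ⨁ fun _ : Fin n => ModSite.unit O
  let d : X ⟶ ModSite.unit O := biproduct.desc a
  let π : Fin n → (X ⟶ ModSite.unit O) := fun j => biproduct.π _ j
  let ι : Fin n → (ModSite.unit O ⟶ X) := fun j => biproduct.ι (fun _ : Fin n => ModSite.unit O) j
  let P : PMo O := (preF O).obj X ⊗ (preF O).obj F
  let ξ : P.obj (op V) := ∑ j, (((ι j).val.app (op V) (one' O V) : X.val.obj (op V)) ⊗ₜ[O.obj.obj (op V)] s j)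
  let η : ModSite.sect ((tR F).obj X) V := (Groth.L00.ModSiteTensor.unit P).app (op V) ξ
  have hnat : ∀ {X' X'' : ModSite.Mod O} (φ : X' ⟶ X'') (W : C)
      (w : ((preF O).obj X' ⊗ (preF O).obj F).obj (op W)),
      ((tR F).map φ).val.app (op W) ((Groth.L00.ModSiteTensor.unit ((preF O).obj X' ⊗ (preF O).obj F)).app (op W) w) =
        (Groth.L00.ModSiteTensor.unit ((preF O).obj X'' ⊗ (preF O).obj F)).app (op W)
          (((preF O).map φ ▷ (preF O).obj F).app (op W) w) := fun φ W w =>
    congr(($((PresheafOfModules.sheafificationAdjunction (𝟙 (ModSite.ringSh O).obj)).unit.naturality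
      ((preF O).map φ ▷ (preF O).obj F))).app (op W) w).symm
  have hdη : ((tR F).map d).val.app (op V) η = 0 := by
    refine (hnat d V ξ).trans ?_
    have e : ((preF O).map d ▷ (preF O).obj F).app (op V) ξ = 0 := by
      refine (map_sum (((preF O).map d ▷ (preF O).obj F).app (op V)).hom _ _).trans ?_
      have e1 : ∀ j, d.val.app (op V) ((ι j).val.app (op V) (one' O V)) = (a j).val.app (op V) (one' O V) :=
        fun j => congr(($(biproduct.ι_desc a j)).val.app (op V) (one' O V))
      refine Eq.trans ?_ ((tmul_sum (R := O.obj.obj (op V)) (one' O V) Finset.univ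
        fun j => sc ((a j).val.app (op V) (one' O V)) • s j).symm.trans
          ((congrArg (fun z => one' O V ⊗ₜ[O.obj.obj (op V)] z) h).trans
            (tmul_zero (R := O.obj.obj (op V)) (N := ModSite.sect F V) (one' O V))))
      refine Finset.sum_congr rfl fun j _ => ?_
      show d.val.app (op V) ((ι j).val.app (op V) (one' O V)) ⊗ₜ[O.obj.obj (op V)] s j = _
      rw [e1]
      refine Eq.trans ?_ (smul_tmul (R := O.obj.obj (op V)) (sc ((a j).val.app (op V) (one' O V))) (one' O V) (s j))
      exact congrArg (fun z : ModSite.sect (ModSite.unit O) V => z ⊗ₜ[O.obj.obj (op V)] s j)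
        (mul_one (sc ((a j).val.app (op V) (one' O V)))).symm
    rw [e]
    exact map_zero _
  let S₀ : ShortComplex (ModSite.Mod O) := ShortComplex.mk (kernel.ι d) d (kernel.condition d)
  have hS₀ : (S₀.map (tR F)).Exact :=
    (ShortComplex.exact_kernel d).map_of_mono_of_preservesKernel (tR F) inferInstance inferInstance
  haveI : Mono (S₀.map (tR F)).f := inferInstanceAs (Mono ((tR F).map (kernel.ι d)))
  let η' : ModSite.freeOn O V ⟶ (tR F).obj X := (freeSecAdd O V _).symm η
  have hη' : η' ≫ (S₀.map (tR F)).g = 0 := by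
    apply (freeSecAdd O V ((tR F).obj (ModSite.unit O))).injective
    refine Eq.trans ?_ (map_zero (freeSecAdd O V ((tR F).obj (ModSite.unit O)))).symm
    refine (Groth.L10.FreeOn.sec_comp O V η' ((tR F).map d)).trans ?_
    show ((tR F).map d).val.app (op V) (freeSecAdd O V _ η') = 0
    rw [show freeSecAdd O V ((tR F).obj X) η' = η from (freeSecAdd O V _).apply_symm_apply η]
    exact hdη
  let y : ModSite.sect ((tR F).obj (kernel d)) V := freeSecAdd O V _ (hS₀.lift η' hη')
  have hy : ((tR F).map (kernel.ι d)).val.app (op V) y = η :=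
    ((Groth.L10.FreeOn.sec_comp O V _ ((tR F).map (kernel.ι d))).symm.trans
      (congrArg (freeSecAdd O V _) (hS₀.lift_f η' hη'))).trans ((freeSecAdd O V _).apply_symm_apply η)
  let PK : PMo O := (preF O).obj (kernel d) ⊗ (preF O).obj F
  refine ⟨_, Presheaf.imageSieve_mem J (CategoryTheory.toSheafify J PK.presheaf) (U := op V) y, fun W g hg => ?_⟩
  obtain ⟨w, hw⟩ := hg
  obtain ⟨l, κ, t, hwt⟩ := exists_sum (kernel d) F w
  refine ⟨l, t, fun j k => sc ((π j).val.app (op W) ((kernel.ι d).val.app (op W) (κ k))), fun j => ?_, fun k => ?_⟩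
  · let m : (shf O).obj P ⟶ F :=
      ((shfAdj O).homEquiv P F).symm (((preF O).map (π j) ▷ (preF O).obj F) ≫ (λ_ ((preF O).obj F)).hom)
    have hm : ∀ (Y : C) (z : P.obj (op Y)), m.val.app (op Y) ((Groth.L00.ModSiteTensor.unit P).app (op Y) z) =
        (((preF O).map (π j) ▷ (preF O).obj F) ≫ (λ_ ((preF O).obj F)).hom).app (op Y) z := fun Y z => by
      have e : Groth.L00.ModSiteTensor.unit P ≫ (preF O).map m = _ :=
        ((shfAdj O).homEquiv_unit P F m).symm.trans (Equiv.apply_symm_apply _ _)
      exact congr(($e).app (op Y) z)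
    let φY : ∀ Y : C, P.obj (op Y) →+ F.val.obj (op Y) := fun Y =>
      ((((preF O).map (π j) ▷ (preF O).obj F) ≫ (λ_ ((preF O).obj F)).hom).app (op Y)).hom.toAddMonoidHom
    have hφ : ∀ (Y : C) (x : X.val.obj (op Y)) (z : F.val.obj (op Y)),
        φY Y (x ⊗ₜ[O.obj.obj (op Y)] z) = sc ((π j).val.app (op Y) x) • z := fun Y x z =>
      TensorProduct.lid_tmul (R := O.obj.obj (op Y)) (M := F.val.obj (op Y)) z _
    have h1 : m.val.app (op V) η = s j := by
      refine (hm V ξ).trans ((map_sum (φY V) _ _).trans ?_)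
      rw [Finset.sum_eq_single j]
      · refine (hφ V _ _).trans ?_
        have : (π j).val.app (op V) ((ι j).val.app (op V) (one' O V)) = one' O V :=
          congr(($(biproduct.ι_π_self (fun _ : Fin n => ModSite.unit O) j)).val.app (op V) (one' O V))
        rw [this]
        exact one_smul _ _
      · intro i _ hi
        refine (hφ V _ _).trans ?_
        have : (π j).val.app (op V) ((ι i).val.app (op V) (one' O V)) = 0 :=
          congr(($(biproduct.ι_π_ne (fun _ : Fin n => ModSite.unit O) hi)).val.app (op V) (one' O V))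
        rw [this]
        exact zero_smul _ _
      · exact fun hj => absurd (Finset.mem_univ j) hj
    have h2 : rs ((tR F).obj X) g η = (Groth.L00.ModSiteTensor.unit P).app (op W)
        (((preF O).map (kernel.ι d) ▷ (preF O).obj F).app (op W) w) := by
      rw [← hy]
      refine (Groth.L15.ExtSupp.res_natural ((tR F).map (kernel.ι d)) g y).trans ?_
      refine Eq.trans ?_ (hnat (kernel.ι d) W w)
      exact congrArg (((tR F).map (kernel.ι d)).val.app (op W)) hw.symm
    refine ((congrArg (rs F g) h1.symm).trans (Groth.L15.ExtSupp.res_natural m g η)).trans ?_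
    refine (congrArg (m.val.app (op W)) h2).trans ((hm W _).trans ?_)
    rw [hwt]
    refine ((congrArg (φY W) (map_sum (((preF O).map (kernel.ι d) ▷ (preF O).obj F).app (op W)).hom _ _)).trans
      (map_sum (φY W) _ _)).trans ?_
    exact Finset.sum_congr rfl fun k _ => hφ W _ _
  · have hd : ∀ z : X.val.obj (op W), d.val.app (op W) z =
        ∑ j, sc ((π j).val.app (op W) z) * sc ((a j).val.app (op W) (one' O W)) := by
      intro z
      let evz : (X ⟶ ModSite.unit O) →+ ModSite.sect (ModSite.unit O) W :=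
        AddMonoidHom.mk' (fun φ => φ.val.app (op W) z) fun _ _ => rfl
      refine ((congrArg evz (biproduct.desc_eq (g := a))).trans (map_sum evz _ _)).trans ?_
      refine Finset.sum_congr rfl fun j _ => ?_
      show (a j).val.app (op W) ((π j).val.app (op W) z) = _
      refine Eq.trans ?_ (map_smul ((a j).val.app (op W)).hom ((π j).val.app (op W) z) (one' O W))
      exact congrArg ((a j).val.app (op W)) (mul_one (sc ((π j).val.app (op W) z))).symm
    refine ((hd ((kernel.ι d).val.app (op W) (κ k))).symm).trans ?_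
    exact congr(($(kernel.condition d)).val.app (op W) (κ k))

/-- Relations on a flat module are locally trivial. -/
theorem hasTrivialRelations_of_flat (F : ModSite.Mod O) (hF : ModSite.IsFlat F) : HasTrivialRelations F := by
  intro U n f s h
  let a : Fin n → (ModSite.unit (O.over U) ⟶ ModSite.unit (O.over U)) := fun j =>
    (ModSite.unit (O.over U)).unitHomEquiv.symm ((Groth.L10.FreeOn.overSections O U (ModSite.unit O)).symm (f j))
  have ha : ∀ (j : Fin n) (T : Over U), sc ((a j).val.app (op T) (one' (O.over U) T)) = rr O T.hom (f j) := by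
    intro j T
    exact congrArg (fun σ => σ.val (op T))
      ((ModSite.unit (O.over U)).unitHomEquiv.apply_symm_apply
        ((Groth.L10.FreeOn.overSections O U (ModSite.unit O)).symm (f j)))
  let V₀ : Over U := Over.mk (𝟙 U)
  have hone : ∀ j, sc ((a j).val.app (op V₀) (one' (O.over U) V₀)) = f j := fun j => by
    refine (ha j V₀).trans ?_
    show (O.obj.map (𝟙 U).op).hom (f j) = f j
    rw [op_id, CategoryTheory.Functor.map_id]
    rfl
  obtain ⟨S, hS, hSd⟩ := trivial_of_flat (n := n) ((ModSite.restr O U).obj F) (isFlat_restr O U F hF) a V₀ s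
    (by
      refine Eq.trans (Finset.sum_congr rfl fun j _ => ?_) h
      rw [hone j]
      rfl)
  refine ⟨Sieve.overEquiv V₀ S, J.mem_over_iff _ |>.1 hS, fun V g hg => ?_⟩
  have hg' := (Sieve.overEquiv_iff S g).1 hg
  obtain ⟨l, t, c, h1, h2⟩ := hSd _ hg'
  refine ⟨l, t, c, h1, fun k => ?_⟩
  refine Eq.trans (Finset.sum_congr rfl fun j _ => ?_) (h2 k)
  congr 1
  refine (congrArg (fun q => rr O q (f j)) (Category.comp_id g).symm).trans (ha j (Over.mk (g ≫ V₀.hom))).symm

/-- A module all whose relations are locally trivial is flat. -/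
theorem flat_of_hasTrivialRelations (F : ModSite.Mod O) (hF : HasTrivialRelations F) : ModSite.IsFlat F := by
  refine (isFlat_iff F).mpr ⟨fun {A B} i _ => ?_⟩
  let PA : PMo O := (preF O).obj A ⊗ (preF O).obj F
  let PB : PMo O := (preF O).obj B ⊗ (preF O).obj F
  have key : ∀ (V : C) (y : ModSite.sect ((tR F).obj A) V), ((tR F).map i).val.app (op V) y = 0 → y = 0 := by
    intro V y hy
    refine Groth.L15.ExtSupp.sect_ext _ _
      (Presheaf.imageSieve_mem J (CategoryTheory.toSheafify J PA.presheaf) (U := op V) y) y 0 fun W g hg => ?_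
    obtain ⟨w, hw⟩ := hg
    refine Eq.trans ?_ (map_zero (rs ((tR F).obj A) g)).symm
    refine hw.symm.trans ?_
    let w' : PB.obj (op W) := ((preF O).map i ▷ (preF O).obj F).app (op W) w
    have hn : ((tR F).map i).val.app (op W) ((Groth.L00.ModSiteTensor.unit PA).app (op W) w) =
        (Groth.L00.ModSiteTensor.unit PB).app (op W) w' :=
      congr(($((PresheafOfModules.sheafificationAdjunction (𝟙 (ModSite.ringSh O).obj)).unit.naturality
        ((preF O).map i ▷ (preF O).obj F))).app (op W) w).symm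
    have hz : (CategoryTheory.toSheafify J PB.presheaf).app (op W) w' =
        (CategoryTheory.toSheafify J PB.presheaf).app (op W) 0 := by
      rw [map_zero]
      refine hn.symm.trans ?_
      refine (congrArg (((tR F).map i).val.app (op W)) hw).trans ?_
      refine (Groth.L15.ExtSupp.res_natural ((tR F).map i) g y).symm.trans ?_
      rw [hy]
      exact map_zero (rs ((tR F).obj B) g)
    refine Groth.L15.ExtSupp.sect_ext ((tR F).obj A) _
      (Presheaf.equalizerSieve_mem J (CategoryTheory.toSheafify J PB.presheaf) (X := op W) w' 0 hz) _ 0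
      fun Y q hq => ?_
    refine Eq.trans ?_ (map_zero (rs ((tR F).obj A) q)).symm
    refine (PresheafOfModules.naturality_apply (Groth.L00.ModSiteTensor.unit PA) q.op w).symm.trans ?_
    obtain ⟨n, x, t, hxt⟩ := exists_sum A F (PA.map q.op w)
    let iY : A.val.obj (op Y) →ₗ[O.obj.obj (op Y)] B.val.obj (op Y) := (i.val.app (op Y)).hom
    have hzero : ∑ k, iY (x k) ⊗ₜ[O.obj.obj (op Y)] t k = 0 := by
      have h1 : PB.map q.op w' = 0 := (show PB.map q.op w' = PB.map q.op 0 from hq).trans (map_zero (PB.map q.op).hom)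
      rw [show w' = ((preF O).map i ▷ (preF O).obj F).app (op W) w from rfl,
        ← PresheafOfModules.naturality_apply, hxt] at h1
      exact (map_sum (((preF O).map i ▷ (preF O).obj F).app (op Y)).hom _ _).symm.trans h1
    obtain ⟨m, p, t', x', g', b, hrel, hx', heq⟩ := exists_relations iY x t hzero
    obtain ⟨S, hS, hSd⟩ := trivial_relations F hF p Y m g' t' hrel
    refine Groth.L15.ExtSupp.sect_ext _ _ hS _ 0 fun Z e he => ?_
    refine Eq.trans ?_ (map_zero (rs ((tR F).obj A) e)).symm
    refine (PresheafOfModules.naturality_apply (Groth.L00.ModSiteTensor.unit PA) e.op _).symm.trans ?_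
    refine (congrArg ((Groth.L00.ModSiteTensor.unit PA).app (op Z)) ?_).trans
      (map_zero ((Groth.L00.ModSiteTensor.unit PA).app (op Z)).hom)
    obtain ⟨l, uZ, c, hc1, hc2⟩ := hSd e he
    rw [hxt, heq]
    refine (map_sum (PA.map e.op).hom _ _).trans ?_
    refine (Finset.sum_congr rfl fun u _ => PresheafOfModules.Monoidal.tensorObj_map_tmul e.op (x' u) (t' u)).trans ?_
    show ∑ u, rs A e (x' u) ⊗ₜ[O.obj.obj (op Z)] rs F e (t' u) = 0
    simp only [hc1, tmul_sum, ← smul_tmul]
    rw [Finset.sum_comm]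
    refine Finset.sum_eq_zero fun k _ => ?_
    rw [← sum_tmul]
    refine (congrArg (fun v => v ⊗ₜ[O.obj.obj (op Z)] uZ k) ?_).trans (zero_tmul _ _)
    refine Groth.L15.ExtSupp.val_app_injective i Z ?_
    rw [map_zero]
    refine (map_sum (i.val.app (op Z)).hom _ _).trans ?_
    have e1 : ∀ u, i.val.app (op Z) (c u k • rs A e (x' u)) = ∑ r, (c u k * rr O e (g' r u)) • rs B e (b r) := by
      intro u
      refine (map_smul (i.val.app (op Z)).hom (c u k) _).trans ?_
      show c u k • i.val.app (op Z) (rs A e (x' u)) = _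
      rw [show i.val.app (op Z) (rs A e (x' u)) = rs B e (iY (x' u)) from
        (Groth.L15.ExtSupp.res_natural i e (x' u)).symm, hx', map_sum, Finset.smul_sum]
      exact Finset.sum_congr rfl fun r _ => by rw [rs_smul, smul_smul]
    refine (Finset.sum_congr rfl fun u _ => e1 u).trans ?_
    rw [Finset.sum_comm]
    refine Finset.sum_eq_zero fun r _ => ?_
    rw [← Finset.sum_smul, hc2 r k, zero_smul]
  refine ⟨fun {W} p q hpq => SheafOfModules.Hom.ext (PresheafOfModules.hom_ext fun T => ?_)⟩
  refine ModuleCat.hom_ext (LinearMap.ext fun z => ?_)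
  rw [← sub_eq_zero]
  apply key T.unop
  refine (map_sub (((tR F).map i).val.app T).hom _ _).trans ?_
  rw [sub_eq_zero]
  exact congr(($hpq).val.app T z)

end Groth.L15.FlatCrit
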