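import Groth.Prelude.Def_ModSite2
import Groth.Agent.L15.FlatCrit.Relations
import Mathlib.CategoryTheory.Sites.Point.Conservative
import Mathlib.RingTheory.Flat.EquationalCriterion

/-! Flatness of a sheaf of modules and flatness of its stalks at points of the site. -/

set_option autoImplicit false

universe u

open CategoryTheory CategoryTheory.Limits Opposite

noncomputable section

namespace Groth.L15.FlatCrit

variable {C : Type u} [SmallCategory C] {J : GrothendieckTopology C} {O : Sheaf J CommRingCat.{u}}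
variable (p : GrothendieckTopology.Point.{u} J) (F : ModSite.Mod O)

/-- Germs, as an additive map. -/
abbrev germHom (W : C) (w : p.fiber.obj W) : ModSite.sect F W →+ ModSite.stalkAb p F :=
  (p.toPresheafFiber W w (ModSite.toAb F).obj).hom

/-- Germs of functions, as a ring map. -/
abbrev germRingHom (O : Sheaf J CommRingCat.{u}) (W : C) (w : p.fiber.obj W) :
    O.obj.obj (op W) →+* ModSite.stalkRing p O :=
  (p.toPresheafFiber W w O.obj).hom

theorem germ_rs {W W' : C} (g : W' ⟶ W) (w' : p.fiber.obj W') (s : ModSite.sect F W) :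
    germHom p F W' w' (rs F g s) = germHom p F W (p.fiber.map g w') s :=
  p.toPresheafFiber_w_apply g w' (ModSite.toAb F).obj s

theorem germ_rr {W W' : C} (g : W' ⟶ W) (w' : p.fiber.obj W') (r : O.obj.obj (op W)) :
    germRingHom p O W' w' (rr O g r) = germRingHom p O W (p.fiber.map g w') r :=
  p.toPresheafFiber_w_apply g w' O.obj r

theorem germ_smul' (W : C) (w : p.fiber.obj W) (r : O.obj.obj (op W)) (s : ModSite.sect F W) :
    germHom p F W w (r • s) = germRingHom p O W w r • germHom p F W w s :=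
  ModSite.germ_smul p F W w r s

theorem exists_nbhd₂ (X Y : C) (x : p.fiber.obj X) (y : p.fiber.obj Y) :
    ∃ (W : C) (w : p.fiber.obj W) (a : W ⟶ X) (b : W ⟶ Y), p.fiber.map a w = x ∧ p.fiber.map b w = y :=
  ⟨_, _, _, _, (IsCofiltered.minToLeft (Functor.elementsMk p.fiber X x) (Functor.elementsMk p.fiber Y y)).2,
    (IsCofiltered.minToRight (Functor.elementsMk p.fiber X x) (Functor.elementsMk p.fiber Y y)).2⟩

/-- Finitely many germs of sections are germs on one neighbourhood, below a given one. -/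
theorem exists_sect_lift {n : ℕ} (m : Fin n → ModSite.stalkAb p F) (U : C) (x : p.fiber.obj U) :
    ∃ (W : C) (g : W ⟶ U) (w : p.fiber.obj W) (s : Fin n → ModSite.sect F W),
      p.fiber.map g w = x ∧ ∀ i, germHom p F W w (s i) = m i := by
  induction n with
  | zero => exact ⟨U, 𝟙 U, x, Fin.elim0, by simp, fun i => i.elim0⟩
  | succ n ih =>
    obtain ⟨W, g, w, s, hx, hs⟩ := ih (fun i => m i.castSucc)
    obtain ⟨Y, y, z, hz⟩ := p.toPresheafFiber_jointly_surjective (P := (ModSite.toAb F).obj) (m (Fin.last n))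
    obtain ⟨Z, v, a, b, ha, hb⟩ := exists_nbhd₂ p W Y w y
    let z : ModSite.sect F Y := z
    refine ⟨Z, a ≫ g, v, Fin.lastCases (rs F b z) (fun i => rs F a (s i)), ?_, fun i => ?_⟩
    · rw [Functor.map_comp, ConcreteCategory.comp_apply, ha, hx]
    · induction i using Fin.lastCases with
      | last =>
        simp only [Fin.lastCases_last]
        rw [germ_rs, hb]
        exact hz
      | cast i =>
        simp only [Fin.lastCases_castSucc]
        rw [germ_rs, ha, hs]

/-- Finitely many germs of functions are germs on one neighbourhood, below a given one. -/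
theorem exists_func_lift {n : ℕ} (m : Fin n → ModSite.stalkRing p O) (U : C) (x : p.fiber.obj U) :
    ∃ (W : C) (g : W ⟶ U) (w : p.fiber.obj W) (f : Fin n → O.obj.obj (op W)),
      p.fiber.map g w = x ∧ ∀ i, germRingHom p O W w (f i) = m i := by
  induction n with
  | zero => exact ⟨U, 𝟙 U, x, Fin.elim0, by simp, fun i => i.elim0⟩
  | succ n ih =>
    obtain ⟨W, g, w, s, hx, hs⟩ := ih (fun i => m i.castSucc)
    obtain ⟨Y, y, z, hz⟩ := p.toPresheafFiber_jointly_surjective (P := O.obj) (m (Fin.last n))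
    obtain ⟨Z, v, a, b, ha, hb⟩ := exists_nbhd₂ p W Y w y
    refine ⟨Z, a ≫ g, v, Fin.lastCases (rr O b z) (fun i => rr O a (s i)), ?_, fun i => ?_⟩
    · rw [Functor.map_comp, ConcreteCategory.comp_apply, ha, hx]
    · induction i using Fin.lastCases with
      | last =>
        simp only [Fin.lastCases_last]
        rw [germ_rr, hb]
        exact hz
      | cast i =>
        simp only [Fin.lastCases_castSucc]
        rw [germ_rr, ha, hs]

/-- Finitely many equations between germs hold on one neighbourhood. -/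
theorem exists_sect_eq {n : ℕ} (W : C) (w : p.fiber.obj W) (z₁ z₂ : Fin n → ModSite.sect F W)
    (h : ∀ i, germHom p F W w (z₁ i) = germHom p F W w (z₂ i)) :
    ∃ (Y : C) (g : Y ⟶ W) (y : p.fiber.obj Y), p.fiber.map g y = w ∧ ∀ i, rs F g (z₁ i) = rs F g (z₂ i) := by
  induction n with
  | zero => exact ⟨W, 𝟙 W, w, by simp, fun i => i.elim0⟩
  | succ n ih =>
    obtain ⟨Y, g, y, hy, hg⟩ := ih (fun i => z₁ i.castSucc) (fun i => z₂ i.castSucc) (fun i => h _)
    have h' : germHom p F Y y (rs F g (z₁ (Fin.last n))) = germHom p F Y y (rs F g (z₂ (Fin.last n))) := by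
      rw [germ_rs, germ_rs, hy]
      exact h _
    obtain ⟨Z, e, z, hz, he⟩ := (p.toPresheafFiber_eq_iff' (P := (ModSite.toAb F).obj) Y y _ _).1 h'
    refine ⟨Z, e ≫ g, z, ?_, fun i => ?_⟩
    · rw [Functor.map_comp, ConcreteCategory.comp_apply, hz, hy]
    · rw [← rs_rs, ← rs_rs]
      induction i using Fin.lastCases with
      | last => exact he
      | cast i => rw [hg i]

/-- Finitely many equations between germs of functions hold on one neighbourhood. -/
theorem exists_func_eq {n : ℕ} (W : C) (w : p.fiber.obj W) (z₁ z₂ : Fin n → O.obj.obj (op W))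
    (h : ∀ i, germRingHom p O W w (z₁ i) = germRingHom p O W w (z₂ i)) :
    ∃ (Y : C) (g : Y ⟶ W) (y : p.fiber.obj Y), p.fiber.map g y = w ∧ ∀ i, rr O g (z₁ i) = rr O g (z₂ i) := by
  induction n with
  | zero => exact ⟨W, 𝟙 W, w, by simp, fun i => i.elim0⟩
  | succ n ih =>
    obtain ⟨Y, g, y, hy, hg⟩ := ih (fun i => z₁ i.castSucc) (fun i => z₂ i.castSucc) (fun i => h _)
    have h' : germRingHom p O Y y (rr O g (z₁ (Fin.last n))) = germRingHom p O Y y (rr O g (z₂ (Fin.last n))) := by
      rw [germ_rr, germ_rr, hy]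
      exact h _
    obtain ⟨Z, e, z, hz, he⟩ := (p.toPresheafFiber_eq_iff' (P := O.obj) Y y _ _).1 h'
    refine ⟨Z, e ≫ g, z, ?_, fun i => ?_⟩
    · rw [Functor.map_comp, ConcreteCategory.comp_apply, hz, hy]
    · rw [← rr_rr, ← rr_rr]
      induction i using Fin.lastCases with
      | last => exact he
      | cast i => rw [hg i]

/-- Relations on a stalk come from relations on a neighbourhood. -/
theorem flat_stalk_of_hasTrivialRelations (hF : HasTrivialRelations F) :
    Module.Flat (ModSite.stalkRing p O) (ModSite.stalkMod p F) := by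
  refine Module.Flat.of_forall_isTrivialRelation fun {n f₀ m₀} hrel => ?_
  obtain ⟨⟨U, x⟩⟩ := (inferInstance : IsCofiltered p.fiber.Elements).nonempty
  obtain ⟨W₁, _, w₁, f₁, -, hf⟩ := exists_func_lift p f₀ U x
  obtain ⟨W, g, w, s, hw, hs⟩ := exists_sect_lift p F m₀ W₁ w₁
  have hf' : ∀ i, germRingHom p O W w (rr O g (f₁ i)) = f₀ i := fun i => by rw [germ_rr, hw, hf]
  have h0 : germHom p F W w (∑ i, rr O g (f₁ i) • s i) = germHom p F W w 0 := by
    rw [map_sum, map_zero]
    refine Eq.trans (Finset.sum_congr rfl fun i _ => ?_) hrel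
    rw [germ_smul', hf', hs]
  obtain ⟨Y, e, y, hy, he⟩ := exists_sect_eq p F W w (fun _ : Fin 1 => ∑ i, rr O g (f₁ i) • s i) (fun _ => 0) (fun _ => h0)
  have he0 : ∑ i, rr O e (rr O g (f₁ i)) • rs F e (s i) = 0 := by
    have := he 0
    rw [map_sum, map_zero] at this
    exact Eq.trans (Finset.sum_congr rfl fun i _ => (rs_smul F e _ _).symm) this
  obtain ⟨S, hS, hSd⟩ := hF Y n _ _ he0
  obtain ⟨V, q, hq, v, hv⟩ := p.jointly_surjective S hS y
  obtain ⟨l, t, a, h1, h2⟩ := hSd q hq
  refine ⟨l, fun i k => germRingHom p O V v (a i k), fun k => germHom p F V v (t k), fun i => ?_, fun k => ?_⟩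
  · have e1 : germHom p F V v (rs F q (rs F e (s i))) = m₀ i := by rw [germ_rs, germ_rs, hv, hy, hs]
    rw [← e1, h1, map_sum]
    exact Finset.sum_congr rfl fun k _ => germ_smul' p F V v _ _
  · have e2 := congrArg (germRingHom p O V v) (h2 k)
    rw [map_sum, map_zero] at e2
    refine Eq.trans (Finset.sum_congr rfl fun i _ => ?_) e2
    rw [map_mul, mul_comm, germ_rr p q, hv, germ_rr p e, hy, hf']

/-- If the stalks at a conservative family of points are flat, all relations are locally trivial. -/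
theorem hasTrivialRelations_of_flat_stalks (P : ObjectProperty (GrothendieckTopology.Point.{u} J))
    (hP : P.IsConservativeFamilyOfPoints)
    (hF : ∀ q : GrothendieckTopology.Point.{u} J, P q →
      Module.Flat (ModSite.stalkRing q O) (ModSite.stalkMod q F)) :
    HasTrivialRelations F := by
  intro U n f s hrel
  let good : (Σ V : C, V ⟶ U) → Prop := fun i => ∃ (l : ℕ) (t : Fin l → ModSite.sect F i.1)
    (a : Fin n → Fin l → O.obj.obj (op i.1)),
      (∀ j, rs F i.2 (s j) = ∑ k, a j k • t k) ∧ ∀ k, ∑ j, a j k * rr O i.2 (f j) = 0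
  refine ⟨Sieve.ofArrows (fun i : {i // good i} => i.1.1) (fun i => i.1.2),
    (hP.jointly_reflect_ofArrows_mem (fun i : {i // good i} => i.1.2)).2 fun q x => ?_, fun V g hg => ?_⟩
  · haveI := hF q.obj q.property
    have h0 : ∑ j, germRingHom q.obj O U x (f j) •
        (germHom q.obj F U x (s j) : ModSite.stalkMod q.obj F) = 0 := by
      have := congrArg (germHom q.obj F U x) hrel
      rw [map_sum, map_zero] at this
      exact Eq.trans (Finset.sum_congr rfl fun j _ => (germ_smul' q.obj F U x _ _).symm) this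
    obtain ⟨l, a₀, t₀, h1, h2⟩ := Module.Flat.isTrivialRelation_of_sum_smul_eq_zero h0
    obtain ⟨W₁, g₁, w₁, t₁, hx₁, ht₁⟩ := exists_sect_lift q.obj F t₀ U x
    obtain ⟨W, g₂, w, a₁, hx₂, ha₁⟩ :=
      exists_func_lift q.obj (fun i : Fin (n * l) => a₀ (finProdFinEquiv.symm i).1 (finProdFinEquiv.symm i).2) W₁ w₁
    let g : W ⟶ U := g₂ ≫ g₁
    let a : Fin n → Fin l → O.obj.obj (op W) := fun j k => a₁ (finProdFinEquiv (j, k))
    let t : Fin l → ModSite.sect F W := fun k => rs F g₂ (t₁ k)
    have hgw : q.obj.fiber.map g w = x := by rw [Functor.map_comp, ConcreteCategory.comp_apply, hx₂, hx₁]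
    have ha : ∀ j k, germRingHom q.obj O W w (a j k) = a₀ j k := fun j k => by
      refine (ha₁ _).trans ?_
      simp
    have ht : ∀ k, germHom q.obj F W w (t k) = t₀ k := fun k => by rw [germ_rs, hx₂, ht₁]
    have k1 : ∀ j, germHom q.obj F W w (rs F g (s j)) = germHom q.obj F W w (∑ k, a j k • t k) := fun j => by
      rw [germ_rs, hgw, map_sum]
      refine (h1 j).trans (Finset.sum_congr rfl fun k _ => ?_)
      rw [germ_smul', ha, ht]
    have k2 : ∀ k, germRingHom q.obj O W w (∑ j, a j k * rr O g (f j)) = germRingHom q.obj O W w 0 := fun k => by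
      rw [map_sum, map_zero]
      refine Eq.trans (Finset.sum_congr rfl fun j _ => ?_) (h2 k)
      rw [map_mul, ha, germ_rr, hgw, mul_comm]
    obtain ⟨Y₁, e₁, y₁, hy₁, he₁⟩ := exists_sect_eq q.obj F W w _ _ k1
    obtain ⟨Y, e₂, y, hy, he₂⟩ := exists_func_eq q.obj Y₁ y₁ _ _
      (fun k : Fin l => show germRingHom q.obj O Y₁ y₁ (rr O e₁ (∑ j, a j k * rr O g (f j))) =
        germRingHom q.obj O Y₁ y₁ (rr O e₁ 0) by rw [germ_rr, germ_rr, hy₁]; exact k2 k)
    let e : Y ⟶ W := e₂ ≫ e₁
    refine ⟨⟨⟨Y, e ≫ g⟩, l, fun k => rs F e (t k), fun j k => rr O e (a j k), fun j => ?_, fun k => ?_⟩, y, ?_⟩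
    · show rs F (e ≫ g) (s j) = _
      rw [← rs_rs, ← rs_rs F e₁ e₂, he₁, rs_rs, map_sum]
      exact Finset.sum_congr rfl fun k _ => rs_smul F e _ _
    · show ∑ j, rr O e (a j k) * rr O (e ≫ g) (f j) = 0
      have := he₂ k
      rw [rr_rr, rr_rr, map_zero, map_sum] at this
      refine Eq.trans (Finset.sum_congr rfl fun j _ => ?_) this
      rw [map_mul, ← rr_rr O g e]
    · show q.obj.fiber.map (e ≫ g) y = x
      rw [Functor.map_comp, Functor.map_comp, ConcreteCategory.comp_apply, ConcreteCategory.comp_apply, hy, hy₁, hgw]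
  · obtain ⟨W, e, _, ⟨⟨i, l, t, a, h1, h2⟩⟩, rfl⟩ := hg
    refine ⟨l, fun k => rs F e (t k), fun j k => rr O e (a j k), fun j => ?_, fun k => ?_⟩
    · rw [← rs_rs, h1, map_sum]
      exact Finset.sum_congr rfl fun k _ => rs_smul F e _ _
    · refine Eq.trans (Finset.sum_congr rfl fun j _ => ?_) ((congrArg (rr O e) (h2 k)).trans (map_zero _) |> (map_sum (rr O e) _ _).symm.trans)
      rw [map_mul, rr_rr]

end Groth.L15.FlatCrit
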