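import Groth.Agent.L15.FlatCrit.Relations
import Groth.Agent.L10.SiteRightDerived
import Mathlib.Algebra.Category.ModuleCat.Sheaf.Quasicoherent

/-! Maps from finitely presented modules to flat modules factor locally through finite free modules. -/

set_option autoImplicit false

universe u

open CategoryTheory CategoryTheory.Limits Opposite

noncomputable section

namespace Groth.L15.FlatCrit

variable {C : Type u} [SmallCategory C] {J : GrothendieckTopology C} (O : Sheaf J CommRingCat.{u})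

section Top

variable (Y : C)

/-- The terminal object of a slice. -/
abbrev topObj : Over Y := Over.mk (𝟙 Y)

variable {O} {Y}

/-- The value of a map out of the structure sheaf on the unit section over the whole slice. -/
def evTop {M : ModSite.Mod (O.over Y)} : (ModSite.unit (O.over Y) ⟶ M) →+ ModSite.sect M (topObj Y) :=
  AddMonoidHom.mk' (fun φ => φ.val.app (op (topObj Y)) (one' (O.over Y) (topObj Y))) fun _ _ => rfl

theorem evTop_injective {M : ModSite.Mod (O.over Y)} : Function.Injective (evTop (M := M)) := by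
  intro φ ψ h
  refine M.unitHomEquiv.injective (Subtype.ext (funext fun X => ?_))
  have key : ∀ s : M.sections, s.val X = M.val.map (Over.homMk X.unop.hom : X.unop ⟶ topObj Y).op (s.val (op (topObj Y))) :=
    fun s => (s.property _).symm
  rw [key, key]
  exact congrArg (fun z => M.val.map (Over.homMk X.unop.hom : X.unop ⟶ topObj Y).op z) h

/-- The map out of the structure sheaf of a slice given by a section on the whole slice. -/
def ofTop {M : ModSite.Mod (O.over Y)} (x : ModSite.sect M (topObj Y)) : ModSite.unit (O.over Y) ⟶ M :=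
  M.unitHomEquiv.symm ⟨fun X => M.val.map (Over.homMk X.unop.hom : X.unop ⟶ topObj Y).op x, fun {X X'} g => by
    refine (rs_rs M _ g.unop x).trans ?_
    have e : g.unop ≫ (Over.homMk X.unop.hom : X.unop ⟶ topObj Y) = Over.homMk X'.unop.hom :=
      Over.OverMorphism.ext (Over.w g.unop)
    rw [e]
    rfl⟩

theorem evTop_ofTop {M : ModSite.Mod (O.over Y)} (x : ModSite.sect M (topObj Y)) : evTop (ofTop x) = x := by
  refine (congrArg (fun s : M.sections => s.val (op (topObj Y))) (M.unitHomEquiv.apply_symm_apply _)).trans ?_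
  have e : (Over.homMk (topObj Y).hom : topObj Y ⟶ topObj Y) = 𝟙 _ := Over.OverMorphism.ext rfl
  show M.val.presheaf.map (Over.homMk (topObj Y).hom : topObj Y ⟶ topObj Y).op x = x
  rw [e, op_id, CategoryTheory.Functor.map_id]
  rfl

theorem evTop_comp {M : ModSite.Mod (O.over Y)} (φ : ModSite.unit (O.over Y) ⟶ ModSite.unit (O.over Y))
    (ψ : ModSite.unit (O.over Y) ⟶ M) : evTop (φ ≫ ψ) = sc (evTop φ) • evTop ψ := by
  refine Eq.trans ?_ (map_smul (ψ.val.app (op (topObj Y))).hom (evTop φ) (one' (O.over Y) (topObj Y)))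
  exact congrArg (ψ.val.app (op (topObj Y))) (mul_one (sc (evTop φ))).symm

end Top

section Pull

variable {X Y : C} (v : Y ⟶ X)

/-- Restriction from a slice to a smaller slice. -/
abbrev pullTo : ModSite.Mod (O.over X) ⥤ ModSite.Mod (O.over Y) :=
  SheafOfModules.overMap.{u} (ModSite.ringSh O) v

theorem epi_pullTo_map {A B : ModSite.Mod (O.over X)} (p : A ⟶ B) [Epi p] : Epi ((pullTo O v).map p) := by
  refine (SheafOfModules.toSheaf.{u} _).epi_of_epi_map ?_
  refine (Sheaf.isLocallySurjective_iff_epi' _ _).1 ⟨fun {T} s => ?_⟩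
  haveI hp : Sheaf.IsLocallySurjective ((SheafOfModules.toSheaf.{u} _).map p) :=
    (Sheaf.isLocallySurjective_iff_epi' _ _).2 inferInstance
  have h := Presheaf.imageSieve_mem (J.over X) ((SheafOfModules.toSheaf _).map p).hom
    (U := op ((Over.map v).obj T)) s
  rw [J.mem_over_iff] at h
  rw [J.mem_over_iff]
  refine J.superset_covering (fun W e he => ?_) h
  rw [Sieve.overEquiv_iff] at he ⊢
  obtain ⟨a, ha⟩ := he
  let r : (Over.map v).obj (Over.mk (e ≫ T.hom)) ⟶ Over.mk (e ≫ ((Over.map v).obj T).hom) :=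
    Over.homMk (𝟙 W) (by simp)
  refine ⟨rs A r a, ?_⟩
  refine (Groth.L15.ExtSupp.res_natural p r a).symm.trans ?_
  refine (congrArg (rs B r) ha).trans ((rs_rs B _ r _).trans ?_)
  have e' : r ≫ (Over.homMk e : Over.mk (e ≫ ((Over.map v).obj T).hom) ⟶ (Over.map v).obj T) =
      (Over.map v).map (Over.homMk e : Over.mk (e ≫ T.hom) ⟶ T) := Over.OverMorphism.ext (Category.id_comp e)
  rw [e']
  rfl

end Pull

section Gen

variable {A : Type*} [Category A] [Preadditive A] {B : Type*} [Category B] [Preadditive B]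
  (Φ : A ⥤ B) [Φ.Additive] {I : Type*} [Fintype I] {X Z : A} {Y : I → A}

theorem eq_zero_of_map_comp {W : B} (ι : ∀ r, Y r ⟶ X) (π : ∀ r, X ⟶ Y r) (hsum : ∑ r, π r ≫ ι r = 𝟙 X)
    (ξ : Φ.obj X ⟶ W) (h : ∀ r, Φ.map (ι r) ≫ ξ = 0) : ξ = 0 := by
  rw [← Category.id_comp ξ, ← Φ.map_id, ← hsum, Functor.map_sum, Preadditive.sum_comp]
  exact Finset.sum_eq_zero fun r _ => by rw [Functor.map_comp, Category.assoc, h, comp_zero]

theorem map_comp_sum {W : B} (x : Z ⟶ X) (π : ∀ k, X ⟶ Y k) (row : ∀ k, Φ.obj (Y k) ⟶ W) :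
    Φ.map x ≫ (∑ k, Φ.map (π k) ≫ row k) = ∑ k, Φ.map (x ≫ π k) ≫ row k := by
  simp only [Preadditive.comp_sum, Functor.map_comp, Category.assoc]

theorem sum_comp_eq {W V : B} (π : ∀ k, X ⟶ Y k) (row : ∀ k, Φ.obj (Y k) ⟶ W) (b : W ⟶ V)
    (ψ : ∀ k, Y k ⟶ Z) (e : Φ.obj Z ⟶ V) (h : ∀ k, row k ≫ b = Φ.map (ψ k) ≫ e) :
    (∑ k, Φ.map (π k) ≫ row k) ≫ b = Φ.map (∑ k, π k ≫ ψ k) ≫ e := by
  simp only [Preadditive.sum_comp, Functor.map_sum, Category.assoc, h, Functor.map_comp]

end Gen

/-- The dual coordinates of a finite free module. -/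
theorem exists_dual_free {D : Type u} [SmallCategory D] {K : GrothendieckTopology D} (R : Sheaf K CommRingCat.{u})
    (I : Type u) [Fintype I] :
    ∃ π : I → ((SheafOfModules.free I : ModSite.Mod R) ⟶ ModSite.unit R),
      ∑ k, π k ≫ SheafOfModules.ιFree k = 𝟙 (SheafOfModules.free I) := by
  classical
  let π : I → ((SheafOfModules.free I : ModSite.Mod R) ⟶ ModSite.unit R) := fun k =>
    Cofan.IsColimit.desc (SheafOfModules.isColimitFreeCofan _) (fun j => if j = k then 𝟙 _ else 0)
  let ι : I → (ModSite.unit R ⟶ (SheafOfModules.free I : ModSite.Mod R)) := fun j => SheafOfModules.ιFree j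
  have hfac : ∀ j k, ι j ≫ π k = if j = k then 𝟙 _ else 0 := fun j k =>
    Cofan.IsColimit.fac (SheafOfModules.isColimitFreeCofan _) _ j
  refine ⟨π, Cofan.IsColimit.hom_ext (SheafOfModules.isColimitFreeCofan _) _ _ fun j => ?_⟩
  show ι j ≫ (∑ k, π k ≫ ι k) = ι j ≫ 𝟙 _
  rw [Category.comp_id, Preadditive.comp_sum, Finset.sum_eq_single j]
  · rw [← Category.assoc, hfac, if_pos rfl, Category.id_comp]
  · intro k _ hk
    rw [← Category.assoc, hfac, if_neg (Ne.symm hk), zero_comp]
  · exact fun h => absurd (Finset.mem_univ j) h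

/-- A map from a finitely presented module to a flat module factors locally through finite free modules. -/
theorem exists_sieve_factor {F H : ModSite.Mod O} (hH : ModSite.IsFlat H) (φ : F ⟶ H) {Z : C}
    (P : SheafOfModules.Presentation (F.over Z)) [P.IsFinite] {Y : C} (v : Y ⟶ Z) :
    ∃ R ∈ J Y, ∀ ⦃W : C⦄ (e : W ⟶ Y), R e →
      ∃ (n : ℕ) (a : (ModSite.restr O W).obj F ⟶ SheafOfModules.free (ULift.{u} (Fin n)))
        (b : SheafOfModules.free (ULift.{u} (Fin n)) ⟶ (ModSite.restr O W).obj H),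
        a ≫ b = (ModSite.restr O W).map φ := by
  classical
  haveI : Fintype P.generators.I := Fintype.ofFinite _
  haveI : Fintype P.relations.I := Fintype.ofFinite _
  let Fi : ModSite.Mod (O.over Z) := (ModSite.restr O Z).obj F
  let Hi : ModSite.Mod (O.over Z) := (ModSite.restr O Z).obj H
  let FG : ModSite.Mod (O.over Z) := SheafOfModules.free P.generators.I
  let FR : ModSite.Mod (O.over Z) := SheafOfModules.free P.relations.I
  let g : FG ⟶ Fi := P.generators.π
  let q : FR ⟶ kernel g := P.relations.π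
  let ι₁ : P.generators.I → (ModSite.unit (O.over Z) ⟶ FG) := fun k => SheafOfModules.ιFree k
  obtain ⟨π₁, hsum⟩ : ∃ π₁ : P.generators.I → (FG ⟶ ModSite.unit (O.over Z)), ∑ k, π₁ k ≫ ι₁ k = 𝟙 FG :=
    exists_dual_free (O.over Z) _
  let φi : Fi ⟶ Hi := (ModSite.restr O Z).map φ
  let ψ : P.generators.I → (ModSite.unit (O.over Z) ⟶ Hi) := fun k => ι₁ k ≫ g ≫ φi
  let A : P.relations.I → P.generators.I → (ModSite.unit (O.over Z) ⟶ ModSite.unit (O.over Z)) :=
    fun r k => SheafOfModules.ιFree r ≫ q ≫ kernel.ι g ≫ π₁ k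
  have hA : ∀ r, ∑ k, A r k ≫ ψ k = 0 := fun r => by
    have : ∀ k, A r k ≫ ψ k = (SheafOfModules.ιFree r ≫ q ≫ kernel.ι g) ≫ (π₁ k ≫ ι₁ k) ≫ (g ≫ φi) := fun k => by
      simp only [A, ψ, Category.assoc]
    rw [Finset.sum_congr rfl fun k _ => this k, ← Preadditive.comp_sum, ← Preadditive.sum_comp, hsum,
      Category.id_comp]
    simp
  let T : Over Z := Over.mk v
  let eG := Fintype.equivFin P.generators.I
  let eR := Fintype.equivFin P.relations.I
  let av : P.relations.I → P.generators.I → ∀ V : Over Z, (O.over Z).obj.obj (op V) :=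
    fun r k V => sc ((A r k).val.app (op V) (one' (O.over Z) V))
  let sv : P.generators.I → ∀ V : Over Z, ModSite.sect Hi V := fun k V => (ψ k).val.app (op V) (one' (O.over Z) V)
  have hrel : ∀ r, ∑ j, av (eR.symm r) (eG.symm j) T • sv (eG.symm j) T = 0 := fun r => by
    let evT : (ModSite.unit (O.over Z) ⟶ Hi) →+ ModSite.sect Hi T :=
      AddMonoidHom.mk' (fun α => α.val.app (op T) (one' (O.over Z) T)) fun _ _ => rfl
    have h0 := congrArg evT (hA (eR.symm r))
    rw [map_sum, map_zero] at h0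
    rw [eG.symm.sum_comp (fun k => av (eR.symm r) k T • sv k T)]
    refine Eq.trans (Finset.sum_congr rfl fun k _ => ?_) h0
    refine Eq.trans (map_smul ((ψ k).val.app (op T)).hom (av (eR.symm r) k T) (one' (O.over Z) T)).symm ?_
    exact congrArg ((ψ k).val.app (op T)) (mul_one (av (eR.symm r) k T))
  obtain ⟨S, hS, hSd⟩ := trivial_relations Hi
    (hasTrivialRelations_of_flat Hi (Groth.L15.ModTensor.isFlat_restr O Z H hH)) _ T _ _ _ hrel
  refine ⟨Sieve.overEquiv T S, J.mem_over_iff _ |>.1 hS, fun W e he => ?_⟩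
  rw [Sieve.overEquiv_iff] at he
  let w : W ⟶ Z := e ≫ v
  let V : Over Z := (Over.map w).obj (topObj W)
  let r₀ : V ⟶ Over.mk (e ≫ T.hom) := Over.homMk (𝟙 W) (by simp [V, w, T])
  obtain ⟨l, t, c, h1, h2⟩ := hSd _ (S.downward_closed he r₀)
  let Φ : ModSite.Mod (O.over Z) ⥤ ModSite.Mod (O.over W) := pullTo O w
  haveI : Φ.Additive := ⟨fun {_ _ _ _} => rfl⟩
  haveI : ∀ {A' B' : ModSite.Mod (O.over Z)} (p : A' ⟶ B') [Epi p], Epi (Φ.map p) := fun p => epi_pullTo_map O w p
  let FL : ModSite.Mod (O.over W) := SheafOfModules.free (ULift.{u} (Fin l))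
  let row : P.generators.I → (ModSite.unit (O.over W) ⟶ FL) := fun k =>
    ∑ m : Fin l, ofTop (M := ModSite.unit (O.over W)) (c (eG k) m) ≫ SheafOfModules.ιFree (ULift.up m)
  let a' : Φ.obj FG ⟶ FL := ∑ k, Φ.map (π₁ k) ≫ row k
  let AΦ : P.relations.I → P.generators.I → (ModSite.unit (O.over W) ⟶ ModSite.unit (O.over W)) :=
    fun r k => Φ.map (A r k)
  have hrow : ∀ r, ∑ k, AΦ r k ≫ row k = 0 := fun r => by
    simp only [row, Preadditive.comp_sum]
    rw [Finset.sum_comm]
    refine Finset.sum_eq_zero fun m _ => ?_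
    rw [Finset.sum_congr rfl fun k _ => (Category.assoc (AΦ r k) _ _).symm, ← Preadditive.sum_comp]
    have hz : ∑ k, AΦ r k ≫ ofTop (M := ModSite.unit (O.over W)) (c (eG k) m) = 0 := by
      apply evTop_injective
      rw [map_sum, map_zero]
      refine Eq.trans ?_ (h2 (eR r) m)
      refine Fintype.sum_equiv eG _ _ fun k => ?_
      rw [evTop_comp, evTop_ofTop, eR.symm_apply_apply, eG.symm_apply_apply]
      refine (mul_comm (G := O.obj.obj (op W)) _ _).trans (congrArg (fun z => c (eG k) m * z) ?_)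
      refine Eq.trans ?_ (Groth.L15.ExtSupp.res_natural (A r k)
        (r₀ ≫ (Over.homMk e : Over.mk (e ≫ T.hom) ⟶ T)) (one' (O.over Z) T)).symm
      exact congrArg ((A r k).val.app (op V))
        (map_one (rr (O.over Z) (r₀ ≫ (Over.homMk e : Over.mk (e ≫ T.hom) ⟶ T)))).symm
    rw [hz, zero_comp]
  have hq : Φ.map (q ≫ kernel.ι g) ≫ a' = 0 := by
    obtain ⟨πR, hR⟩ := exists_dual_free (O.over Z) P.relations.I
    refine eq_zero_of_map_comp Φ (fun r => (SheafOfModules.ιFree r : ModSite.unit (O.over Z) ⟶ FR)) πR hR _ fun r => ?_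
    rw [← Category.assoc, ← Functor.map_comp, map_comp_sum]
    refine Eq.trans (Finset.sum_congr rfl fun k _ => ?_) (hrow r)
    exact congrArg (fun z : ModSite.unit (O.over Z) ⟶ ModSite.unit (O.over Z) =>
      (Φ.map z : ModSite.unit (O.over W) ⟶ ModSite.unit (O.over W)) ≫ row k)
      ((Category.assoc _ _ _).trans (congrArg (fun z => (SheafOfModules.ιFree r : ModSite.unit (O.over Z) ⟶ FR) ≫ z) (Category.assoc _ _ _)))
  let S₀ : ShortComplex (ModSite.Mod (O.over Z)) := ShortComplex.mk (kernel.ι g) g (kernel.condition g)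
  haveI : Epi g := inferInstanceAs (Epi P.generators.π)
  haveI : Epi q := inferInstanceAs (Epi P.relations.π)
  haveI : PreservesFiniteLimits Φ := by
    haveI : Φ.IsRightAdjoint := inferInstanceAs
      (SheafOfModules.pushforward.{u} (F := Over.map w) (Sheaf.pushforwardOverMapIso (ModSite.ringSh O) w).inv).IsRightAdjoint
    infer_instance
  have hS₀ : (S₀.map Φ).Exact :=
    (ShortComplex.exact_kernel g).map_of_mono_of_preservesKernel Φ inferInstance inferInstance
  haveI : Epi (S₀.map Φ).g := inferInstanceAs (Epi (Φ.map g))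
  have hker : (S₀.map Φ).f ≫ a' = 0 := by
    refine (cancel_epi (Φ.map q)).1 (Eq.trans ?_ comp_zero.symm)
    exact ((Category.assoc _ _ _).symm.trans (congrArg (fun z => z ≫ a') (Φ.map_comp q (kernel.ι g)).symm)).trans hq
  let d : Φ.obj Fi ⟶ FL := hS₀.desc a' hker
  let eF : Φ.obj Fi ≅ (ModSite.restr O W).obj F := (SheafOfModules.overFunctorMap.{u} (ModSite.ringSh O) w).app F
  let eH : Φ.obj Hi ≅ (ModSite.restr O W).obj H := (SheafOfModules.overFunctorMap.{u} (ModSite.ringSh O) w).app H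
  let b : FL ⟶ (ModSite.restr O W).obj H :=
    Cofan.IsColimit.desc (SheafOfModules.isColimitFreeCofan _) fun m => ofTop (M := (ModSite.restr O W).obj H) (t m.down)
  refine ⟨l, eF.inv ≫ d, b, ?_⟩
  rw [Category.assoc, Iso.inv_comp_eq]
  have hnat : eF.hom ≫ (ModSite.restr O W).map φ = Φ.map φi ≫ eH.hom :=
    ((SheafOfModules.overFunctorMap.{u} (ModSite.ringSh O) w).hom.naturality φ).symm
  rw [hnat]
  have hd : Φ.map g ≫ d = a' := hS₀.g_desc _ _
  refine (cancel_epi (Φ.map g)).1 ?_
  rw [← Category.assoc, hd]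
  show a' ≫ b = Φ.map g ≫ Φ.map φi ≫ eH.hom
  have e2 : ∀ k, row k ≫ b = Φ.map (ψ k) ≫ eH.hom := by
    intro k
    apply evTop_injective
    simp only [row, Preadditive.sum_comp, Category.assoc]
    rw [map_sum]
    have e3 : ∀ m : Fin l, (SheafOfModules.ιFree (ULift.up m) : ModSite.unit (O.over W) ⟶ FL) ≫ b = ofTop (t m) :=
      fun m => Cofan.IsColimit.fac (SheafOfModules.isColimitFreeCofan _) _ _
    refine (Finset.sum_congr rfl fun m _ => by rw [e3, evTop_comp, evTop_ofTop, evTop_ofTop]).trans ?_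
    refine (h1 (eG k)).symm.trans ?_
    refine Eq.trans (congrArg (fun j => rs Hi (r₀ ≫ (Over.homMk e : Over.mk (e ≫ T.hom) ⟶ T)) (sv j T))
      (eG.symm_apply_apply k)) ?_
    refine (Groth.L15.ExtSupp.res_natural (ψ k) _ _).trans ?_
    exact congrArg ((ψ k).val.app (op V)) (map_one (rr (O.over Z) _))
  refine (sum_comp_eq Φ π₁ row b ψ eH.hom e2).trans ?_
  have : ∑ k, π₁ k ≫ ψ k = g ≫ φi := by
    simp only [ψ, ← Category.assoc, ← Preadditive.sum_comp]
    rw [hsum, Category.id_comp]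
  rw [this, Functor.map_comp, Category.assoc]

end Groth.L15.FlatCrit
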